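import Cfsg.Agent.Omega.IId.ThmJ.Side
import Cfsg.Agent.MinSimple.Basic

/-!
# THEOREM J (helper882 #21032): the end

`false_of` : two sides `JS` over the same `J`, `U ∩ U' = 1`, `J1` not abelian, `J` weakly closed: contradiction.
-/

set_option autoImplicit false
set_option linter.unusedSectionVars false

namespace Cfsg.Agent.Omega.IId.ThmJ

open Subgroup Cfsg Cfsg.Agent.ZN.ChoiceBase
open Cfsg.Agent.ZN (o2 zc jj zj)
open Cfsg.Agent.Lib.SL2Mat Cfsg.Agent.Omega.NatPair Cfsg.Agent.Omega.HOne.NSMod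
open Cfsg.Agent.Omega.HOne.NSSide Cfsg.Agent.Omega.HOne.NSPair
open Cfsg.Agent.Omega.SQ1.Bau (elem_comm elem_sq mem_sup_comm card_sup_comm mem_AA_of_comm zj_le_AA)
open Cfsg.Agent.MinSimple.VModule (o2_isPGroup le_normalizer_o2)

universe u

variable {G : Type u} [Group G] {F : Type} [Field F]

/-- the subgroup generated by the squares -/
def sqg (X : Subgroup G) : Subgroup G := closure {y | ∃ x ∈ X, y = x * x}

theorem sqg_norm {X L : Subgroup G} (h : L ≤ normalizer (X : Set G)) : L ≤ normalizer (sqg X : Set G) := by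
  have h1 : ∀ l ∈ L, ∀ y ∈ sqg X, l * y * l⁻¹ ∈ sqg X := by
    intro l hl y hy
    unfold sqg at hy
    induction hy using closure_induction with
    | mem y hy =>
      obtain ⟨x, hx, rfl⟩ := hy
      refine subset_closure ⟨l * x * l⁻¹, (mem_normalizer_iff.1 (h hl) x).1 hx, ?_⟩
      group
    | one => rw [mul_one, mul_inv_cancel]; exact one_mem _
    | mul x y _ _ hx hy =>
      have e : l * (x * y) * l⁻¹ = (l * x * l⁻¹) * (l * y * l⁻¹) := by group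
      rw [e]; exact mul_mem hx hy
    | inv x _ hx =>
      have e : l * x⁻¹ * l⁻¹ = (l * x * l⁻¹)⁻¹ := by group
      rw [e]; exact inv_mem hx
  intro l hl
  rw [mem_normalizer_iff]
  intro y
  refine ⟨h1 l hl y, fun hy => ?_⟩
  have h2 := h1 l⁻¹ (inv_mem hl) _ hy
  have e : l⁻¹ * (l * y * l⁻¹) * l⁻¹⁻¹ = y := by group
  rwa [e] at h2

namespace JS

variable {S T L A U A' J : Subgroup G} {π : G → Fin 2 → F} {e f g : F → G} (h : JS S T L A U A' J π e f g)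

include h

/-- the elements of `Rk` -/
theorem mem_Rk_iff {v : G} (hv : v ∈ Rk h.r) : ∃ a y, v = e a * g y := by
  obtain ⟨a, b, y, rfl⟩ := (h.φ.mN v).1 hv.1
  have h1 := hv.2
  rw [h.r.mul _ (mul_mem (h.φ.eV a) (h.φ.fV b)) _ (h.φ.gV h.r y), h.r.mul _ (h.φ.eV a) _ (h.φ.fV b), h.φ.eπ, h.φ.fπ,
    h.φ.gπ h.r] at h1
  have hb : b = 0 := by simpa using h1
  refine ⟨a, y, ?_⟩
  rw [hb, h.φ.f0, mul_one]

/-- a subgroup containing enough commutators contains `Rk` -/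
theorem Rk_le_of {K : Subgroup G} (hK : ∀ t β : F, e (t ^ 2 * β) * g (t * β) ∈ K) : Rk h.r ≤ K := by
  have h2 : ∀ t k : F, t ≠ 0 → e (t * k) * g k ∈ K := by
    intro t k ht
    have := hK t (k / t)
    have e1 : t ^ 2 * (k / t) = t * k := by field_simp
    have e2 : t * (k / t) = k := by field_simp
    rwa [e1, e2] at this
  obtain ⟨ω, hω0, hω1⟩ := h.ω
  have two := h.r.two
  have hω : 1 + ω ≠ 0 := fun h => hω1 (by linear_combination h - two)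
  have h3 : ∀ z, e z ∈ K := by
    intro z
    set k := z / (1 + ω) with hk
    have h4 := mul_mem (h2 1 k one_ne_zero) (inv_mem (h2 ω k hω0))
    have h5 : e (1 * k) * g k * (e (ω * k) * g k)⁻¹ = e z := by
      rw [h.r.inv (mul_mem (h.φ.eV _) (h.φ.gV h.r _))]
      have c1 := h.r.Vc _ (h.φ.gV h.r k) _ (h.φ.eV (ω * k))
      calc e (1 * k) * g k * (e (ω * k) * g k) = e (1 * k) * (g k * e (ω * k)) * g k := by group
        _ = e (1 * k) * e (ω * k) * (g k * g k) := by rw [c1]; group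
        _ = e z := by
          rw [h.r.Vs _ (h.φ.gV h.r k), mul_one, ← h.φ.e_add]
          congr 1
          rw [hk]; field_simp
    rwa [h5] at h4
  have h6 : ∀ y, g y ∈ K := fun y => by
    have h4 := mul_mem (inv_mem (h3 (1 * y))) (h2 1 y one_ne_zero)
    rwa [inv_mul_cancel_left] at h4
  intro v hv
  obtain ⟨a, y, rfl⟩ := h.mem_Rk_iff hv
  exact mul_mem (h3 a) (h6 y)

theorem J_le_L : J ≤ L := fun x hx => by
  obtain ⟨b, hb⟩ := h.act x hx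
  exact hb.mem

/-- decomposition of `A` -/
theorem A_split {n : G} (hn : Is L A U π n (wm 1 one_ne_zero)) {v : G} (hv : v ∈ A) :
    ∃ r ∈ Rk h.r, ∃ r' ∈ Rk h.r, v = n * r * n⁻¹ * r' := by
  have h1 : e (π v 0) ∈ Rk h.r := ⟨h.φ.eV _, by rw [h.φ.eπ]; rfl⟩
  have h2 : n * e (π v 0) * n⁻¹ ∈ A := h.r.Vn n hn.mem _ (h.φ.eV _)
  refine ⟨_, h1, (n * e (π v 0) * n⁻¹)⁻¹ * v, ⟨mul_mem (inv_mem h2) hv, ?_⟩, by group⟩
  rw [h.r.mul _ (inv_mem h2) _ hv, h.r.map_inv h2, hn.act _ (h.φ.eV _), h.φ.eπ, ap_wm]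
  simp

variable [Finite G] [Finite F]

/-- `Ω₁Z(J) ≤ Z1` -/
theorem zJ_le {z : G} (hz : z ∈ J) (hz2 : z ^ 2 = 1) (hc : ∀ x ∈ J, x * z = z * x) :
    z ∈ zj (T ⊓ centralizer (A : Set G)) := by
  obtain ⟨B, hB, hAB⟩ := h.exists_B
  have h1 : z ∈ B := mem_AA_of_comm hB hz hz2 fun b hb => hc b (hB.2.1 hb)
  exact mem_zj.2 ⟨h.le_J1 hB hAB h1, hz2, fun y hy => hc y (h.J1_le hy)⟩

theorem L_Z {l z : G} (hl : l ∈ L) (hz : z ∈ zj (T ⊓ centralizer (A : Set G))) :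
    l * z * l⁻¹ ∈ zj (T ⊓ centralizer (A : Set G)) :=
  (mem_normalizer_iff.1 (normalizer_le_of_cj (F := zj) zj_cj _ (h.QL hl)) z).1 hz

/-- **`W` normalises `Rk`.** -/
theorem W_Rk {W : Subgroup G} (hWJ : W ≤ normalizer (J : Set G)) (hLW : L ≤ normalizer (W : Set G)) :
    ∀ w ∈ W, ∀ v ∈ Rk h.r, w * v * w⁻¹ ∈ Rk h.r := by
  let K : Subgroup G :=
    { carrier := {v | ∀ w ∈ W, w * v * w⁻¹ ∈ Rk h.r}
      one_mem' := fun w _ => by rw [mul_one, mul_inv_cancel]; exact one_mem _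
      mul_mem' := by
        intro x y hx hy w hw
        have e : w * (x * y) * w⁻¹ = (w * x * w⁻¹) * (w * y * w⁻¹) := by group
        rw [e]; exact mul_mem (hx w hw) (hy w hw)
      inv_mem' := by
        intro x hx w hw
        have e : w * x⁻¹ * w⁻¹ = (w * x * w⁻¹)⁻¹ := by group
        rw [e]; exact inv_mem (hx w hw) }
  obtain ⟨n, hn⟩ := h.r.is_lift (wm 1 one_ne_zero)
  have hK : Rk h.r ≤ K := by
    refine h.Rk_le_of fun t β w hw => ?_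
    obtain ⟨x, hx, hxt⟩ := h.s.full (t ^ 2)
    have hxJ := h.A'J hx
    set v : G := n * e β * n⁻¹ with hv
    have hvA : v ∈ A := h.r.Vn n hn.mem _ (h.φ.eV _)
    have hπ : π v 0 = β := by
      rw [hv, hn.act _ (h.φ.eV _), h.φ.eπ, ap_wm]; simp
    have h1 := h.φ.act t x hxt v hvA
    rw [hπ] at h1
    have e1 : e (t ^ 2 * β) * g (t * β) = x * v * x⁻¹ * v⁻¹ := by rw [h1]; group
    -- `x^w ∈ J`, `v^w ∈ Z1`
    have hxw : w * x * w⁻¹ ∈ J := (mem_normalizer_iff.1 (hWJ hw) x).1 hxJ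
    have hw' : n⁻¹ * w * n ∈ W := by
      have := (mem_normalizer_iff.1 (hLW (inv_mem hn.mem)) w).1 hw
      rwa [inv_inv] at this
    have heR : e β ∈ Rk h.r := ⟨h.φ.eV _, by rw [h.φ.eπ]; rfl⟩
    have hz : n⁻¹ * w * n * e β * (n⁻¹ * w * n)⁻¹ ∈ zj (T ⊓ centralizer (A : Set G)) := by
      refine h.zJ_le ((mem_normalizer_iff.1 (hWJ hw') _).1 (h.AJ (h.φ.eV _))) ?_ fun y hy => ?_
      · rw [conj_pow, pow_two, h.r.Vs _ (h.φ.eV _), mul_one, mul_inv_cancel]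
      · have hy' : (n⁻¹ * w * n)⁻¹ * y * (n⁻¹ * w * n) ∈ J := by
          have := (mem_normalizer_iff.1 (hWJ (inv_mem hw')) y).1 hy
          rwa [inv_inv] at this
        have h2 := h.J_Rk hy' heR
        calc y * (n⁻¹ * w * n * e β * (n⁻¹ * w * n)⁻¹)
            = (n⁻¹ * w * n) * ((n⁻¹ * w * n)⁻¹ * y * (n⁻¹ * w * n) * e β) * (n⁻¹ * w * n)⁻¹ := by group
          _ = (n⁻¹ * w * n) * (e β * ((n⁻¹ * w * n)⁻¹ * y * (n⁻¹ * w * n))) * (n⁻¹ * w * n)⁻¹ := by rw [h2]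
          _ = _ := by group
    have hvw : w * v * w⁻¹ ∈ zj (T ⊓ centralizer (A : Set G)) := by
      have e2 : w * v * w⁻¹ = n * (n⁻¹ * w * n * e β * (n⁻¹ * w * n)⁻¹) * n⁻¹ := by rw [hv]; group
      rw [e2]; exact h.L_Z hn.mem hz
    have h3 := h.comm_Z hxw hvw
    have e3 : w * (e (t ^ 2 * β) * g (t * β)) * w⁻¹ =
      (w * x * w⁻¹) * (w * v * w⁻¹) * (w * x * w⁻¹)⁻¹ * (w * v * w⁻¹)⁻¹ := by rw [e1]; group
    rw [e3]; exact h3
  exact fun w hw v hv => hK hv w hw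

/-- **`W` is trivial on `A / U`.** -/
theorem W_triv {W : Subgroup G} (hW2 : IsPGroup 2 W) (hLW : L ≤ normalizer (W : Set G))
    (hWR : ∀ w ∈ W, ∀ v ∈ Rk h.r, w * v * w⁻¹ ∈ Rk h.r) :
    ∀ w ∈ W, ∀ v ∈ A, w * v * w⁻¹ ∈ A ∧ π (w * v * w⁻¹) = π v := by
  have hconj : ∀ w ∈ W, ∀ l ∈ L, l⁻¹ * w * l ∈ W := fun w hw l hl => by
    have := (mem_normalizer_iff.1 (hLW (inv_mem hl)) w).1 hw
    rwa [inv_inv] at this
  -- the conjugates of `Rk`
  have hRl : ∀ w ∈ W, ∀ l ∈ L, ∀ r ∈ Rk h.r, ∃ r' ∈ Rk h.r, w * (l * r * l⁻¹) * w⁻¹ = l * r' * l⁻¹ := by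
    intro w hw l hl r hr
    refine ⟨_, hWR _ (hconj w hw l hl) r hr, ?_⟩
    group
  -- `W` normalises `A`
  obtain ⟨n, hn⟩ := h.r.is_lift (wm 1 one_ne_zero)
  have hA : ∀ w ∈ W, ∀ v ∈ A, w * v * w⁻¹ ∈ A := by
    intro w hw v hv
    obtain ⟨r, hr, r', hr', rfl⟩ := h.A_split hn hv
    obtain ⟨r₁, hr₁, h1⟩ := hRl w hw n hn.mem r hr
    have e1 : w * (n * r * n⁻¹ * r') * w⁻¹ = (w * (n * r * n⁻¹) * w⁻¹) * (w * r' * w⁻¹) := by group
    rw [e1, h1]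
    exact mul_mem (h.r.Vn n hn.mem _ hr₁.1) (hWR w hw r' hr').1
  -- lines
  have hline : ∀ w ∈ W, ∀ c : F, ∀ v ∈ A, π v 1 = c * π v 0 → π (w * v * w⁻¹) 1 = c * π (w * v * w⁻¹) 0 := by
    intro w hw c v hv hc
    obtain ⟨l, hl⟩ := h.r.is_lift (Cfsg.Agent.Lib.SL2Mat.mk 0 1 (-1) c (by ring))
    have h1 : l⁻¹ * v * l ∈ Rk h.r := by
      have hv' : l⁻¹ * v * l ∈ A := by
        have := h.r.Vn _ (inv_mem hl.mem) v hv
        rwa [inv_inv] at this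
      refine ⟨hv', ?_⟩
      have h2 := hl.act _ hv'
      have e1 : l * (l⁻¹ * v * l) * l⁻¹ = v := by group
      rw [e1] at h2
      have h3 := congrFun h2 0
      have h4 := congrFun h2 1
      rw [ap_zero'] at h3
      rw [ap_one'] at h4
      simp only [mk_00, mk_01, mk_10, mk_11] at h3 h4
      rw [h3, h4] at hc
      linear_combination -hc
    obtain ⟨r', hr', h2⟩ := hRl w hw l hl.mem _ h1
    have e1 : w * (l * (l⁻¹ * v * l) * l⁻¹) * w⁻¹ = w * v * w⁻¹ := by group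
    rw [e1] at h2
    rw [h2, hl.act _ hr'.1, ap_zero', ap_one', hr'.2]
    simp only [mk_00, mk_01, mk_10, mk_11]
    ring
  have hU : ∀ w ∈ W, ∀ v ∈ A, π v = 0 → π (w * v * w⁻¹) = 0 := by
    intro w hw v hv h0
    have h1 := (hWR w hw v ⟨hv, by rw [h0]; rfl⟩).2
    have h2 := hline w hw 0 v hv (by rw [h0]; simp)
    apply ext2
    · exact h1
    · rw [h2, zero_mul]; rfl
  -- the scalar
  have hmul : ∀ w ∈ W, ∀ v ∈ A, ∀ u ∈ A, π (w * (v * u) * w⁻¹) = π (w * v * w⁻¹) + π (w * u * w⁻¹) := by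
    intro w hw v hv u hu
    have e1 : w * (v * u) * w⁻¹ = (w * v * w⁻¹) * (w * u * w⁻¹) := by group
    rw [e1, h.r.mul _ (hA w hw v hv) _ (hA w hw u hu)]
  have hsc : ∀ w ∈ W, ∃ μ : F, ∀ v ∈ A, π (w * v * w⁻¹) = μ • π v := by
    intro w hw
    refine ⟨π (w * f 1 * w⁻¹) 0, ?_⟩
    set μ := π (w * f 1 * w⁻¹) 0 with hμ
    have a0 : ∀ y, π (w * e y * w⁻¹) 0 = 0 := fun y => (hWR w hw _ ⟨h.φ.eV y, by rw [h.φ.eπ]; rfl⟩).2
    have a1 : ∀ x, π (w * f x * w⁻¹) 1 = 0 := fun x => by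
      rw [hline w hw 0 (f x) (h.φ.fV x) (by rw [h.φ.fπ]; simp), zero_mul]
    have b1 : ∀ y, π (w * e y * w⁻¹) 1 = μ * y := by
      intro y
      have h1 := hline w hw y (f 1 * e y) (mul_mem (h.φ.fV 1) (h.φ.eV y)) (by
        rw [h.r.mul _ (h.φ.fV 1) _ (h.φ.eV y), h.φ.fπ, h.φ.eπ]; simp)
      rw [hmul w hw _ (h.φ.fV 1) _ (h.φ.eV y)] at h1
      simp only [Pi.add_apply] at h1
      rw [a0, a1, add_zero, zero_add, ← hμ] at h1
      rw [h1, mul_comm]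
    have b0 : ∀ x, π (w * f x * w⁻¹) 0 = μ * x := by
      intro x
      have h1 := hline w hw 1 (f x * e x) (mul_mem (h.φ.fV x) (h.φ.eV x)) (by
        rw [h.r.mul _ (h.φ.fV x) _ (h.φ.eV x), h.φ.fπ, h.φ.eπ]; simp)
      rw [hmul w hw _ (h.φ.fV x) _ (h.φ.eV x)] at h1
      simp only [Pi.add_apply] at h1
      rw [a0, a1, add_zero, zero_add, one_mul, b1] at h1
      exact h1.symm
    intro v hv
    obtain ⟨a, b, y, rfl⟩ := (h.φ.mN v).1 hv
    have hg0 := hU w hw (g y) (h.φ.gV h.r y) (h.φ.gπ h.r y)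
    rw [hmul w hw _ (mul_mem (h.φ.eV a) (h.φ.fV b)) _ (h.φ.gV h.r y), hmul w hw _ (h.φ.eV a) _ (h.φ.fV b), hg0, add_zero,
      h.r.mul _ (mul_mem (h.φ.eV a) (h.φ.fV b)) _ (h.φ.gV h.r y), h.r.mul _ (h.φ.eV a) _ (h.φ.fV b), h.φ.eπ, h.φ.fπ,
      h.φ.gπ h.r, add_zero]
    apply ext2
    · simp only [Pi.add_apply, Pi.smul_apply, smul_eq_mul, Matrix.cons_val_zero]
      rw [a0, b0]; ring
    · simp only [Pi.add_apply, Pi.smul_apply, smul_eq_mul, Matrix.cons_val_one]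
      rw [a1, b1]; simp
  intro w hw v hv
  refine ⟨hA w hw v hv, ?_⟩
  obtain ⟨μ, hμ⟩ := hsc w hw
  have hpow : ∀ m : ℕ, ∀ v ∈ A, π (w ^ m * v * (w ^ m)⁻¹) = μ ^ m • π v := by
    intro m
    induction m with
    | zero => intro v _; rw [pow_zero, pow_zero, one_mul, inv_one, mul_one, one_smul]
    | succ m ih =>
      intro v hv
      have e1 : w ^ (m + 1) * v * (w ^ (m + 1))⁻¹ = w * (w ^ m * v * (w ^ m)⁻¹) * w⁻¹ := by
        rw [pow_succ']; group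
      rw [e1, hμ _ (hA _ (pow_mem hw m) v hv), ih v hv, smul_smul, pow_succ']
  obtain ⟨m, hm⟩ := hW2 ⟨w, hw⟩
  have hm' : w ^ 2 ^ m = 1 := by simpa using congrArg Subtype.val hm
  have h1 := hpow (2 ^ m) (f 1) (h.φ.fV 1)
  rw [hm', one_mul, inv_one, mul_one, h.φ.fπ] at h1
  have h2 := congrFun h1 0
  simp only [Pi.smul_apply, smul_eq_mul, Matrix.cons_val_zero, mul_one] at h2
  have two := h.r.two
  have hchar : CharP F 2 := CharTwo.of_one_ne_zero_of_two_eq_zero one_ne_zero two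
  have h3 : (μ - 1) ^ 2 ^ m = 0 := by
    rw [sub_pow_char_pow, ← h2, one_pow, sub_self]
  have h4 : μ = 1 := sub_eq_zero.1 (pow_eq_zero_iff (pow_ne_zero m two_ne_zero) |>.1 h3)
  rw [hμ v hv, h4, one_smul]

end JS

/-! ### The two sides -/

section two

variable [Finite G] [Finite F] {S S' T T' L L' A A' U U' J : Subgroup G} {π π' : G → Fin 2 → F}
  {e f g e' f' g' : F → G} (h : JS S T L A U A' J π e f g) (h' : JS S' T' L' A' U' A J π' e' f' g')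

include h h'

/-- **(2)** -/
theorem J1_split {x : G} (hx : x ∈ JS.J1 T A) :
    ∃ a ∈ A, ∃ j, j ∈ JS.J1 T A ∧ j ∈ JS.J1 T' A' ∧ x = a * j := by
  let K : Subgroup G :=
    { carrier := {x | ∃ a ∈ A, ∃ j, j ∈ JS.J1 T A ∧ j ∈ JS.J1 T' A' ∧ x = a * j}
      one_mem' := ⟨1, one_mem _, 1, one_mem _, one_mem _, (mul_one 1).symm⟩
      mul_mem' := by
        rintro _ _ ⟨a, ha, j, hj, hj', rfl⟩ ⟨b, hb, i, hi, hi', rfl⟩
        refine ⟨a * b, mul_mem ha hb, j * i, mul_mem hj hi, mul_mem hj' hi', ?_⟩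
        have h1 := JS.J1_comm hj hb
        calc a * j * (b * i) = a * (j * b) * i := by group
          _ = a * (b * j) * i := by rw [h1]
          _ = _ := by group
      inv_mem' := by
        rintro _ ⟨a, ha, j, hj, hj', rfl⟩
        refine ⟨a⁻¹, inv_mem ha, j⁻¹, inv_mem hj, inv_mem hj', ?_⟩
        rw [mul_inv_rev, JS.J1_comm (inv_mem hj) (inv_mem ha)] }
  have hK : JS.J1 T A ≤ K := by
    conv_lhs => rw [JS.J1, jj_eq]
    refine sSup_le fun B hB b hb => ?_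
    obtain ⟨hBJ, hAB⟩ := h.of_AAQ hB
    obtain ⟨c, hc⟩ := h'.act b (hBJ.2.1 hb)
    obtain ⟨a, ha, hac⟩ := h'.s.full c
    have h1 : Is L' A' U' π' (a⁻¹ * b) (lo 0) := by
      have h2 := h'.r.is_mul (h'.r.is_inv hac) hc
      rw [inv_mul_cancel] at h2
      rw [lo_zero]; exact h2
    have h2 : a⁻¹ * b ∈ B := mul_mem (inv_mem (hAB ha)) hb
    refine ⟨a, ha, a⁻¹ * b, h.le_J1 hBJ hAB h2, ?_, by group⟩
    exact h'.cent_le_J1 hBJ (mem_inf.2 ⟨h2, mem_centralizer_iff.2 fun v hv => (h'.comm_of_zero h1 hv).symm⟩)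
  exact hK hx

theorem sqg_le : sqg (JS.J1 T A) ≤ sqg (JS.J1 T' A') := by
  unfold sqg
  rw [closure_le]
  rintro _ ⟨x, hx, rfl⟩
  obtain ⟨a, ha, j, hj, hj', rfl⟩ := J1_split h h' hx
  refine subset_closure ⟨j, hj', ?_⟩
  have h1 := JS.J1_comm hj ha
  have h2 := h.r.Vs a ha
  calc a * j * (a * j) = a * (j * a) * j := by group
    _ = a * (a * j) * j := by rw [h1]
    _ = (a * a) * (j * j) := by group
    _ = j * j := by rw [h2, one_mul]

/-- **THEOREM J**, abstract form. -/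
theorem false_of (hG : IsCharacteristicTwoType G) (eg : (∀ z, e z ∈ A') ∧ ∀ y, g y ∈ A')
    (eg' : (∀ z, e' z ∈ A) ∧ ∀ y, g' y ∈ A) (hUU : U ⊓ U' = ⊥) (hJ2 : IsPGroup 2 J)
    (hW : ∀ W : Subgroup G, IsPGroup 2 W → J ≤ normalizer (W : Set G) → W ≤ normalizer (J : Set G))
    (hna : ∃ x ∈ JS.J1 T A, ∃ y ∈ JS.J1 T A, x * y ≠ y * x) : False := by
  set K : Subgroup G := sqg (JS.J1 T A) with hK
  have hKK : K = sqg (JS.J1 T' A') := le_antisymm (sqg_le h h') (sqg_le h' h)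
  have hKJ : K ≤ J := by
    rw [hK, sqg, closure_le]
    rintro _ ⟨x, hx, rfl⟩
    exact mul_mem (h.J1_le hx) (h.J1_le hx)
  have hKne : K ≠ ⊥ := by
    intro h0
    obtain ⟨x, hx, y, hy, hxy⟩ := hna
    have hs : ∀ z ∈ JS.J1 T A, z * z = 1 := fun z hz => by
      have : z * z ∈ K := subset_closure ⟨z, hz, rfl⟩
      rw [h0, mem_bot] at this
      exact this
    apply hxy
    have h1 := hs _ (mul_mem hx hy)
    have h2 := hs x hx
    have h3 := hs y hy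
    calc x * y = x * (x * y * (x * y)) * y := by rw [h1, mul_one]
      _ = (x * x) * (y * x) * (y * y) := by group
      _ = y * x := by rw [h2, h3, one_mul, mul_one]
  have hc := Cfsg.Agent.MinSimple.Basic.char2_normalizer hG (hJ2.to_le hKJ) hKne
  set H : Subgroup G := normalizer (K : Set G) with hH
  set W : Subgroup G := o2 H with hWd
  have hLH : L ≤ H := sqg_norm h.L_le_J1
  have hLH' : L' ≤ H := by rw [hH, hKK]; exact sqg_norm h'.L_le_J1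
  have hHW : H ≤ normalizer (W : Set G) := le_normalizer_o2 H
  have hW2 : IsPGroup 2 W := o2_isPGroup H
  have hWJ : W ≤ normalizer (J : Set G) := hW W hW2 ((h.J_le_L.trans hLH).trans hHW)
  have r1 := h.W_Rk hWJ (hLH.trans hHW)
  have r1' := h'.W_Rk hWJ (hLH'.trans hHW)
  have t1 := h.W_triv hW2 (hLH.trans hHW) r1
  have t1' := h'.W_triv hW2 (hLH'.trans hHW) r1'
  -- `Rk ≤ A'`
  have hRA : ∀ v ∈ Rk h.r, v ∈ A' := fun v hv => by
    obtain ⟨a, y, rfl⟩ := h.mem_Rk_iff hv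
    exact mul_mem (eg.1 a) (eg.2 y)
  have hRA' : ∀ v ∈ Rk h'.r, v ∈ A := fun v hv => by
    obtain ⟨a, y, rfl⟩ := h'.mem_Rk_iff hv
    exact mul_mem (eg'.1 a) (eg'.2 y)
  -- `W` centralises `A ∩ A'`
  have hcen : ∀ v, v ∈ A → v ∈ A' → ∀ w ∈ W, w * v = v * w := by
    intro v hv hv' w hw
    obtain ⟨m1, p1⟩ := t1 w hw v hv
    obtain ⟨m1', p1'⟩ := t1' w hw v hv'
    have h1 : w * v * w⁻¹ * v⁻¹ ∈ U := by
      rw [← h.r.ker _ (mul_mem m1 (inv_mem hv)), h.r.mul _ m1 _ (inv_mem hv), h.r.map_inv hv, p1, add_neg_cancel]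
    have h2 : w * v * w⁻¹ * v⁻¹ ∈ U' := by
      rw [← h'.r.ker _ (mul_mem m1' (inv_mem hv')), h'.r.mul _ m1' _ (inv_mem hv'), h'.r.map_inv hv', p1',
        add_neg_cancel]
    have h3 : w * v * w⁻¹ * v⁻¹ ∈ U ⊓ U' := mem_inf.2 ⟨h1, h2⟩
    rw [hUU, mem_bot] at h3
    calc w * v = (w * v * w⁻¹ * v⁻¹) * v * w := by group
      _ = v * w := by rw [h3, one_mul]
  have hconj : ∀ w ∈ W, ∀ l ∈ H, l⁻¹ * w * l ∈ W := fun w hw l hl => by
    have := (mem_normalizer_iff.1 (hHW (inv_mem hl)) w).1 hw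
    rwa [inv_inv] at this
  have hcA : ∀ v ∈ A, ∀ w ∈ W, w * v = v * w := by
    intro v hv w hw
    obtain ⟨n, hn⟩ := h.r.is_lift (wm 1 one_ne_zero)
    obtain ⟨r, hr, r', hr', rfl⟩ := h.A_split hn hv
    have h1 := hcen r' hr'.1 (hRA r' hr') w hw
    have h2 := hcen r hr.1 (hRA r hr) _ (hconj w hw n (hLH hn.mem))
    have h3 : w * (n * r * n⁻¹) = n * r * n⁻¹ * w := by
      calc w * (n * r * n⁻¹) = n * (n⁻¹ * w * n * r) * n⁻¹ := by group
        _ = n * (r * (n⁻¹ * w * n)) * n⁻¹ := by rw [h2]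
        _ = _ := by group
    rw [← mul_assoc, h3, mul_assoc, h1, ← mul_assoc]
  have hcA' : ∀ v ∈ A', ∀ w ∈ W, w * v = v * w := by
    intro v hv w hw
    obtain ⟨n, hn⟩ := h'.r.is_lift (wm 1 one_ne_zero)
    obtain ⟨r, hr, r', hr', rfl⟩ := h'.A_split hn hv
    have h1 := hcen r' (hRA' r' hr') hr'.1 w hw
    have h2 := hcen r (hRA' r hr) hr.1 _ (hconj w hw n (hLH' hn.mem))
    have h3 : w * (n * r * n⁻¹) = n * r * n⁻¹ * w := by
      calc w * (n * r * n⁻¹) = n * (n⁻¹ * w * n * r) * n⁻¹ := by group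
        _ = n * (r * (n⁻¹ * w * n)) * n⁻¹ := by rw [h2]
        _ = _ := by group
    rw [← mul_assoc, h3, mul_assoc, h1, ← mul_assoc]
  -- `A ≤ W`
  have hAW : A ≤ W := fun v hv => hc (mem_inf.2 ⟨(h.J_le_L.trans hLH) (h.AJ hv),
    mem_centralizer_iff.2 fun w hw => hcA v hv w hw⟩)
  have h1 := (h.s.cen (f 1) (h.φ.fV 1)).1 fun a ha => (hcA' a ha _ (hAW (h.φ.fV 1))).symm
  rw [h.φ.fπ] at h1
  exact one_ne_zero h1

end two

end Cfsg.Agent.Omega.IId.ThmJ
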