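import Cfsg.Agent.Omega.IId.ThmJ.Plug

/-!
# THEOREM J (helper882 #21032)

`jj_ne_split` : a mutual pair with `k`, `k'` natural factors over `F`, `F'`, `|F| ≥ 4`, `k ≥ 2` or `k' ≥ 2`, one member split:
`J(S) ≠ J(S')`.  `jj_ne_half` : the same without `split` if `Half (Lc M i) (Nc M i)` holds for all `i`, on both sides.
-/

set_option autoImplicit false
set_option linter.unusedSectionVars false

namespace Cfsg.Agent.Omega.IId.ThmJ

open Subgroup Cfsg Cfsg.Agent.ZN.ChoiceBase Cfsg.Agent.Omega.MinPar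
open Cfsg.Agent.Omega.FrameFF Cfsg.Agent.Omega.FFThm
open Cfsg.Agent.ZN (o2 zc jj zj zl)
open Cfsg.Agent.Lib.SL2Mat Cfsg.Agent.Omega.HOne.NSMod
open Cfsg.Agent.Omega.NatPair (ap ap_add ap_mul ap_one ap_inj ext2 ap_zero' ap_one' ap_inv_ap ap_ap_inv)
open Cfsg.Agent.Omega.HOne.NSSide Cfsg.Agent.Omega.HOne.NSPair
open Cfsg.Agent.Omega.HOne (cv_le conj_mem_zl conj_mem_cv conj_mem_vx)
open Cfsg.Agent.Omega.IId.Cv Cfsg.Agent.Omega.IId.Ns
open Cfsg.Agent.Omega.HOne.Main (vx SplitPar)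
open Cfsg.Agent.MinSimple.VModule (zc_comm)

universe u

section one

variable {G : Type u} [Group G] {F : Type} [Field F] {k : ℕ}

/-- `N_i ≤ [V, O²(P)]` -/
theorem Nc_le_vx [Finite G] [CharP F 2] {S P : Subgroup G} (M : NatK F S P (zl S P) (cv S P) k) (i : Fin k) :
    Nc M i ≤ vx S P := by
  rw [Nc, closure_le]
  rintro _ ⟨x, hx, v, hv, rfl⟩
  obtain ⟨B, hB⟩ := exists_of_Fc hx
  obtain ⟨n, hn, d, hd, rfl⟩ := Cv.exists_mul M hv
  have h1 := hB.D hd
  have e : x * (n * d) * x⁻¹ * (n * d)⁻¹ = (x * n * x⁻¹) * n⁻¹ := by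
    calc x * (n * d) * x⁻¹ * (n * d)⁻¹ = x * n * (x⁻¹ * (x * d) * x⁻¹) * d⁻¹ * n⁻¹ := by group
      _ = x * n * (x⁻¹ * (d * x) * x⁻¹) * d⁻¹ * n⁻¹ := by rw [h1]
      _ = _ := by group
  rw [SetLike.mem_coe, e]
  exact mul_mem (conj_mem_vx hB.1 hn) (inv_mem hn)

theorem Uc_bot [Finite G] [CharP F 2] {S P : Subgroup G} (M : NatK F S P (zl S P) (cv S P) k) (i : Fin k)
    (hs : SplitPar S P) : Uc M i = ⊥ := by
  rw [eq_bot_iff, ← hs]
  exact inf_le_inf_right _ (Nc_le_vx M i)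

end one

variable {G : Type u} [Group G] [Finite G]

section same

variable {F : Type} [Field F] [Finite F] [CharP F 2]
  (hG : IsCharacteristicTwoType G) {S S' : Sylow 2 G} {P P' : Subgroup G} (hp : Pair S S' P P') {k k' : ℕ}
  (M : NatK F (S : Subgroup G) P (zl (S : Subgroup G) P) (cv (S : Subgroup G) P) k)
  (M' : NatK F (S' : Subgroup G) P' (zl (S' : Subgroup G) P') (cv (S' : Subgroup G) P') k')
  (hω : ∃ ω : F, ω ≠ 0 ∧ ω ≠ 1) (hT : NoOver (zl (S : Subgroup G) P) P) (hT' : NoOver (zl (S' : Subgroup G) P') P')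

include hG hp hω hT hT' in
theorem jj_ne_of (hk : 1 ≤ k) (hk' : 1 ≤ k') (h2 : 2 ≤ k ∨ 2 ≤ k')
    (hU : ∀ i j, Mt M M' i j → Mt M' M j i → Uc M i ⊓ Uc M' j = ⊥) :
    jj (S : Subgroup G) ≠ jj (S' : Subgroup G) := by
  obtain ⟨I, I', b, c, d⟩ := exists_pd hG hp hT hT' M M'
  obtain ⟨i, j, m, m'⟩ := d.exists_mt hk hk'
  rcases h2 with h2 | h2
  · obtain ⟨l, hl⟩ : ∃ l, l ≠ i := by
      have : Nontrivial (Fin k) := Fin.nontrivial_iff_two_le.2 h2
      exact exists_ne i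
    exact jj_ne hG hp hω hT hT' hl m m' (hU i j m m')
  · obtain ⟨l, hl⟩ : ∃ l, l ≠ j := by
      have : Nontrivial (Fin k') := Fin.nontrivial_iff_two_le.2 h2
      exact exists_ne j
    exact (jj_ne hG hp.symm hω hT' hT hl m' m (by rw [inf_comm]; exact hU i j m m')).symm

include hG hp in
/-- `U_i ∩ U'_j = 1` from HALF* -/
theorem U_inf_of_half {i : Fin k} {j : Fin k'} (hω : ∃ ω : F, ω ≠ 0 ∧ ω ≠ 1) (m : Mt M M' i j) (m' : Mt M' M j i)
    (hh : Half (Lc M i) (Nc M i)) (hh' : Half (Lc M' j) (Nc M' j)) : Uc M i ⊓ Uc M' j = ⊥ := by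
  obtain ⟨e, f, g, e', f', g', p⟩ := exists_pairF hG hp hω m m'
  rcases p.dich with ⟨h1, h2⟩ | ⟨h1, h2, h3, h4⟩
  · have hU : Uc M i = Uc M' j := by
      apply le_antisymm
      · intro u hu
        obtain ⟨y, rfl⟩ := p.φ.ND u hu.1 hu
        obtain ⟨y', hy'⟩ := h1 y
        rw [hy']; exact p.φ'.gD y'
      · intro u hu
        obtain ⟨y, rfl⟩ := p.φ'.ND u hu.1 hu
        obtain ⟨y', hy'⟩ := h2 y
        rw [hy']; exact p.φ.gD y'
    rw [← hU, inf_idem]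
    by_contra h0
    have hU2 : IsPGroup 2 (Uc M i) := (S.isPGroup'.to_le (Sd.V_le_S hG S hp.star)).to_le
      (inf_le_left.trans (Ns.Nc_le M i))
    have hc := MinSimple.Basic.char2_normalizer hG hU2 h0
    have hL : Lc M i ≤ normalizer (Uc M i : Set G) := (Sd.Lc_le_St S M i).trans (Sd.St_norm_Uc M i)
    have hL' : Lc M' j ≤ normalizer (Uc M i : Set G) := by
      rw [hU]
      exact (Sd.Lc_le_St S' M' j).trans (Sd.St_norm_Uc M' j)
    have a1 := hh _ hL hc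
    have a2 := hh' _ hL' hc
    obtain ⟨v, hv, hve⟩ := Nc_ex M i ![0, 1]
    have h5 := (m.cen v (Ns.Nc_le M i hv)).1 fun a ha => zc_comm _ _ (a2 ha) _ (a1 hv)
    rw [hve] at h5
    exact one_ne_zero h5
  · -- `U = g(F)`, `U' = g'(F) = e(F)`
    rw [eq_bot_iff]
    rintro x ⟨hx, hx'⟩
    obtain ⟨y', rfl⟩ := p.φ'.ND x hx'.1 hx'
    -- `e(F) = g'(F)`
    choose t ht using h1
    have hinj : Function.Injective t := by
      intro a b hab
      apply p.φ.e_inj p.s.r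
      rw [ht, ht, hab]
    obtain ⟨z, hz⟩ := (Finite.surjective_of_injective hinj) y'
    rw [← hz, ← ht] at hx ⊢
    have h5 := (p.s.r.ker _ (p.φ.eV z)).2 hx
    rw [p.φ.eπ] at h5
    have h6 : z = 0 := by simpa using congrFun h5 1
    rw [mem_bot, h6, p.φ.e0]

end same

section diff

variable {F F' : Type} [Field F] [Finite F] [CharP F 2] [Field F'] [Finite F'] [CharP F' 2]
  (hG : IsCharacteristicTwoType G) {S S' : Sylow 2 G} {P P' : Subgroup G} (hp : Pair S S' P P') {k k' : ℕ}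
  (M : NatK F (S : Subgroup G) P (zl (S : Subgroup G) P) (cv (S : Subgroup G) P) k)
  (M' : NatK F' (S' : Subgroup G) P' (zl (S' : Subgroup G) P') (cv (S' : Subgroup G) P') k')
  (hT : NoOver (zl (S : Subgroup G) P) P) (hT' : NoOver (zl (S' : Subgroup G) P') P')

include hG hp M M' hT hT' in
/-- `F ≅ F'` -/
theorem exists_equiv (hk : 1 ≤ k) (hk' : 1 ≤ k') : Nonempty (F' ≃+* F) := by
  obtain ⟨I, I', b, c, d⟩ := exists_pd hG hp hT hT' M M'
  have hc := d.card_eq hk hk'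
  have : Fintype F := Fintype.ofFinite F
  have : Fintype F' := Fintype.ofFinite F'
  exact ⟨FiniteField.ringEquivOfCardEq (by
    rw [← Nat.card_eq_fintype_card, ← Nat.card_eq_fintype_card, hc])⟩

include hG hp M M' hT hT' in
/-- **THEOREM J**, one member split. -/
theorem jj_ne_split (h4 : 4 ≤ Nat.card F) (hk : 1 ≤ k) (hk' : 1 ≤ k') (h2 : 2 ≤ k ∨ 2 ≤ k')
    (hs : SplitPar (S : Subgroup G) P ∨ SplitPar (S' : Subgroup G) P') :
    jj (S : Subgroup G) ≠ jj (S' : Subgroup G) := by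
  obtain ⟨σ⟩ := exists_equiv hG hp M M' hT hT' hk hk'
  refine jj_ne_of hG hp M (natKFld σ M') (exists_omega h4) hT hT' hk hk' h2 fun i j _ _ => ?_
  rcases hs with hs | hs
  · rw [Uc_bot M i hs, bot_inf_eq]
  · rw [Uc_bot (natKFld σ M') j hs, inf_bot_eq]

include hG hp M M' hT hT' in
/-- **THEOREM J**, with HALF*. -/
theorem jj_ne_half (h4 : 4 ≤ Nat.card F) (hk : 1 ≤ k) (hk' : 1 ≤ k') (h2 : 2 ≤ k ∨ 2 ≤ k')
    (hh : ∀ i, Half (Lc M i) (Nc M i))
    (hh' : ∀ (M' : NatK F (S' : Subgroup G) P' (zl (S' : Subgroup G) P') (cv (S' : Subgroup G) P') k') j,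
      Half (Lc M' j) (Nc M' j)) :
    jj (S : Subgroup G) ≠ jj (S' : Subgroup G) := by
  obtain ⟨σ⟩ := exists_equiv hG hp M M' hT hT' hk hk'
  exact jj_ne_of hG hp M (natKFld σ M') (exists_omega h4) hT hT' hk hk' h2 fun i j m m' =>
    U_inf_of_half hG hp M (natKFld σ M') (exists_omega h4) m m' (hh i) (hh' _ j)

end diff

end Cfsg.Agent.Omega.IId.ThmJ
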