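import Cfsg.Agent.Omega.IId.ThmJ.End
import Cfsg.Agent.Omega.IId.Ns.PairOf
import Cfsg.Agent.Omega.IId.LFour.JPush

/-!
# THEOREM J (helper882 #21032): the plug

`Pair S S' P P'`, `V / D` a sum of `k` natural `SL₂(F)`-modules, `V' / D'` a sum of `k'`, `|F| ≥ 4`, not `k = k' = 1`,
`U_i ∩ U'_j = 1` for a matched pair `i, j` (automatic if both split): then `J(S) ≠ J(S')`.
-/

set_option autoImplicit false
set_option linter.unusedSectionVars false

namespace Cfsg.Agent.Omega.IId.ThmJ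

open Subgroup Cfsg Cfsg.Agent.ZN.ChoiceBase Cfsg.Agent.Omega.MinPar
open Cfsg.Agent.Omega.FrameFF Cfsg.Agent.Omega.FFThm
open Cfsg.Agent.ZN (o2 zc jj zj zl)
open Cfsg.Agent.Lib.SL2Mat Cfsg.Agent.Omega.HOne.NSMod
open Cfsg.Agent.Omega.NatPair (ap ap_add ap_mul ap_one ap_inj ext2 ap_zero' ap_one' ap_inv_ap ap_ap_inv)
open Cfsg.Agent.Omega.HOne.NSSide Cfsg.Agent.Omega.HOne.NSPair
open Cfsg.Agent.Omega.HOne (cv_le conj_mem_zl conj_mem_cv)
open Cfsg.Agent.Omega.IId.Cv Cfsg.Agent.Omega.IId.Ns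
open Cfsg.Agent.Omega.HOne.Main (vx SplitPar)
open Cfsg.Agent.MinSimple.VModule (o2_isPGroup)

universe u

variable {G : Type u} [Group G] [Finite G]

/-- `J(S)` is weakly closed. -/
theorem weak (S : Sylow 2 G) {W : Subgroup G} (hW : IsPGroup 2 W)
    (hJW : jj (S : Subgroup G) ≤ normalizer (W : Set G)) : W ≤ normalizer ((jj (S : Subgroup G) : Subgroup G) : Set G) := by
  have : Fact (Nat.Prime 2) := ⟨Nat.prime_two⟩
  have hJ2 : IsPGroup 2 (jj (S : Subgroup G)) := S.isPGroup'.to_le (jj_le _)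
  have h1 : IsPGroup 2 (jj (S : Subgroup G) ⊔ W : Subgroup G) := LemX.isPGroup_sup hJ2 hW hJW
  obtain ⟨Q, hQ⟩ := h1.exists_le_sylow
  obtain ⟨g, hg⟩ := MulAction.exists_smul_eq G S Q
  have hQS : (Q : Subgroup G) = cj g (S : Subgroup G) := by rw [← hg]; rfl
  have hmm : mm (Q : Subgroup G) = mm (S : Subgroup G) := by rw [hQS, mm_cj]
  have hjj : jj (Q : Subgroup G) = cj g (jj (S : Subgroup G)) := by rw [hQS, jj_cj]
  have hJQ : jj (S : Subgroup G) ≤ (Q : Subgroup G) := le_sup_left.trans hQ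
  have h2 : jj (S : Subgroup G) ≤ jj (Q : Subgroup G) := by
    rw [jj_eq (S : Subgroup G)]
    refine sSup_le fun B hB => le_jj (mem_AA_iff.2 ⟨hB.1, (le_jj hB).trans hJQ, ?_⟩)
    rw [hmm, mm_eq hB]
  have h3 : jj (S : Subgroup G) = jj (Q : Subgroup G) :=
    Subgroup.eq_of_le_of_card_ge h2 (by rw [hjj, card_cj])
  have h4 : W ≤ (Q : Subgroup G) := le_sup_right.trans hQ
  rw [h3]
  exact h4.trans (le_normalizer.trans (normalizer_le_jj _))

section side

variable (hG : IsCharacteristicTwoType G) (S : Sylow 2 G) {P : Subgroup G} (hP : IsParS (S : Subgroup G) P)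
  {F : Type} [Field F] [Finite F] [CharP F 2] {k : ℕ}
  (M : NatK F (S : Subgroup G) P (zl (S : Subgroup G) P) (cv (S : Subgroup G) P) k)

include hG hP in
/-- `J(S)` acts as upper unitriangular elements. -/
theorem jj_act {x : G} (hx : x ∈ jj (S : Subgroup G)) : x ∈ P ∧ ∃ b : Fin k → F,
    ActsSL M.e (zl (S : Subgroup G) P) (cv (S : Subgroup G) P) x fun i => up (b i) := by
  let K : Subgroup G :=
    { carrier := {x | x ∈ P ∧ ∃ b : Fin k → F,
        ActsSL M.e (zl (S : Subgroup G) P) (cv (S : Subgroup G) P) x fun i => up (b i)}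
      one_mem' := ⟨one_mem _, 0, by
        have h1 := acts_one M
        have e : (fun i => up ((0 : Fin k → F) i)) = fun _ => (1 : Matrix.SpecialLinearGroup (Fin 2) F) := by
          funext i; exact up_zero
        rwa [e]⟩
      mul_mem' := by
        rintro x y ⟨hx, b, hb⟩ ⟨hy, c, hc⟩
        refine ⟨mul_mem hx hy, b + c, ?_⟩
        have h1 := acts_mul M hx hy hb hc
        have e : (fun i => up (b i) * up (c i)) = fun i => up ((b + c) i) := by
          funext i; rw [up_mul]; rfl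
        rwa [e] at h1
      inv_mem' := by
        rintro x ⟨hx, b, hb⟩
        refine ⟨inv_mem hx, -b, ?_⟩
        have h1 := acts_inv M hx hb
        have e : (fun i => (up (b i))⁻¹) = fun i => up ((-b) i) := by
          funext i; rw [up_inv]; rfl
        rwa [e] at h1 }
  have hK : jj (S : Subgroup G) ≤ K := by
    rw [jj_eq]
    refine sSup_le fun B hB b hb => ⟨hP.le (hB.2.1 hb), ?_⟩
    by_cases hn : B ≤ o2 P
    · refine ⟨0, fun v hv i => ?_, fun d hd => ?_⟩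
      · have h1 := LFour.JPush.comm_V hG hP (hn hb) hv
        rw [h1, mul_inv_cancel_right]
        change _ = ap (up 0) _
        rw [up_zero, ap_one]
      · exact LFour.JPush.comm_V hG hP (hn hb) (cv_le _ _ hd)
    · obtain ⟨I, h1, -⟩ := M.off B hB.2.1 (LFour.JPush.off hG hP hB hn)
      obtain ⟨c, -, hc⟩ := h1 b hb
      exact ⟨c, hc⟩
  exact hK hx

variable {M}

theorem mv_of_up {x : G} {b : Fin k → F}
    (h : ActsSL M.e (zl (S : Subgroup G) P) (cv (S : Subgroup G) P) x fun i => up (b i)) (i : Fin k) : Mv M x i i := by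
  intro v hv
  rw [h.1 v hv, ap_eq_zero]

include hG hP in
theorem jj_le_Tc (i : Fin k) : jj (S : Subgroup G) ≤ Tc M i := by
  intro x hx
  obtain ⟨hxP, b, hb⟩ := jj_act hG S hP M hx
  exact ⟨⟨jj_le _ hx, hxP⟩, mv_of_up S hb i⟩

include hG hP in
theorem jj_is (hω : ∃ ω : F, ω ≠ 0 ∧ ω ≠ 1) (i : Fin k) {x : G} (hx : x ∈ jj (S : Subgroup G)) :
    ∃ b, Is (Lc M i) (Nc M i) (Uc M i) (Sd.natOver hG S hP M hω i).e x (lo b) := by
  obtain ⟨hxP, b, hb⟩ := jj_act hG S hP M hx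
  refine ⟨b i, (le_sup_left : Tc M i ≤ Lc M i) (jj_le_Tc hG S hP i hx), fun v hv => ?_, fun d hd => hb.2 d hd.2⟩
  have h1 := Sd.pc_act S M (hb.1 v (Ns.Nc_le M i hv) i)
  rw [Sd.wm_up_eq] at h1
  exact h1

end side

section pair

variable {F : Type} [Field F] [Finite F] [CharP F 2]
  (hG : IsCharacteristicTwoType G) {S S' : Sylow 2 G} {P P' : Subgroup G} (hp : Pair S S' P P') {k k' : ℕ}
  {M : NatK F (S : Subgroup G) P (zl (S : Subgroup G) P) (cv (S : Subgroup G) P) k}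
  {M' : NatK F (S' : Subgroup G) P' (zl (S' : Subgroup G) P') (cv (S' : Subgroup G) P') k'}
  (hω : ∃ ω : F, ω ≠ 0 ∧ ω ≠ 1) (hT : NoOver (zl (S : Subgroup G) P) P) (hT' : NoOver (zl (S' : Subgroup G) P') P')
  (hJ : jj (S : Subgroup G) = jj (S' : Subgroup G))

include hG hp hT hT' hJ in
/-- one side -/
theorem js_of {i : Fin k} {j : Fin k'} (m : Mt M M' i j) {e f g : F → G}
    (φ : Form (Lc M i) (Nc M i) (Uc M i) (Sd.natOver hG S hp.star M hω i).e e f g (Nc M i)) :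
    JS (S : Subgroup G) (Tc M i) (Lc M i) (Nc M i) (Uc M i) (Nc M' j) (jj (S : Subgroup G))
      (Sd.natOver hG S hp.star M hω i).e e f g where
  s := m.sideS hG hp hω
  φ := φ
  hS := rfl
  TS := Sd.Tc_le M i
  JT := jj_le_Tc hG S hp.star i
  AJ := (Ns.Nc_le M i).trans (LFour.JPush.V_le_jj hG hp.star hT)
  A'J := by
    rw [hJ]
    exact (Ns.Nc_le M' j).trans (LFour.JPush.V_le_jj hG hp.star' hT')
  act x hx := jj_is hG S hp.star hω i hx
  QL := Sd.Lc_le_norm_Qc S M i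
  sq b := by
    have : Fintype F := Fintype.ofFinite F
    obtain ⟨t, ht⟩ := (FiniteField.isSquare_of_char_two (ringChar.eq F 2) b)
    exact ⟨t, by rw [ht, pow_two]⟩
  ω := hω

include hG hp hT hT' hJ in
/-- for `k ≥ 2`, `J1` is not abelian -/
theorem not_comm {i l : Fin k} (hil : l ≠ i) {j : Fin k'} (m : Mt M M' i j) {e f g e' f' g' : F → G}
    (h : JS (S : Subgroup G) (Tc M i) (Lc M i) (Nc M i) (Uc M i) (Nc M' j) (jj (S : Subgroup G))
      (Sd.natOver hG S hp.star M hω i).e e f g)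
    (h' : JS (S' : Subgroup G) (Tc M' j) (Lc M' j) (Nc M' j) (Uc M' j) (Nc M i) (jj (S : Subgroup G))
      (Sd.natOver hG S' hp.star' M' hω j).e e' f' g') :
    ∃ x ∈ JS.J1 (Tc M i) (Nc M i), ∃ y ∈ JS.J1 (Tc M i) (Nc M i), x * y ≠ y * x := by
  have hk : 0 < k := i.pos
  -- `V ≤ J1`
  have hV : zl (S : Subgroup G) P ≤ JS.J1 (Tc M i) (Nc M i) := by
    obtain ⟨B, hB⟩ := AA_nonempty (S : Subgroup G)
    have h1 := LFour.JPush.star_mem hG hp.star hT hB
    have h2 : B ⊓ o2 P ⊔ zl (S : Subgroup G) P ∈ AA (jj (S : Subgroup G)) :=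
      h.mem_AA h1.1 h1.2.1 (by rw [h.mmJ, mm_eq h1])
    exact le_sup_right.trans (h.le_J1 h2 ((Ns.Nc_le M i).trans le_sup_right))
  -- `s` moves the `i`-th factor to the `l`-th
  obtain ⟨s, hs, hsm⟩ := M.trans i l
  have hsP := hp.star.le hs
  obtain ⟨B', hB', hAB'⟩ := h'.exists_B
  have hcj : cj s B' ∈ AA (jj (S : Subgroup G)) := by
    have h1 := cj_mem_AA s hB'
    have h2 : cj s (jj (S : Subgroup G)) = jj (S : Subgroup G) := by
      apply cj_eq_of_mem_normalizer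
      exact normalizer_le_jj _ (le_normalizer hs)
    rwa [h2] at h1
  have hA : ∀ a ∈ Nc M' j, s * a * s⁻¹ ∈ JS.J1 (Tc M i) (Nc M i) := by
    intro a ha
    refine h.cent_le_J1 hcj (mem_inf.2 ⟨?_, mem_centralizer_iff.2 fun n hn => ?_⟩)
    · rw [mem_cj]
      have e1 : s⁻¹ * (s * a * s⁻¹) * s = a := by group
      rw [e1]; exact hAB' ha
    · obtain ⟨c, hc⟩ := m.acts a ha
      obtain ⟨C, hC⟩ := conj_Al hsP (fun v hv => hsm v hv) hc
      exact (Nc_comm hG S hp.star M hil hC.mem_Fc hn).symm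
  obtain ⟨a, ha, hac⟩ := m.full 1
  obtain ⟨v, hv, hve⟩ := M.surj fun _ => ![0, 1]
  refine ⟨_, hA a ha, s * v * s⁻¹, hV (conj_mem_zl hsP hv), fun hcm => ?_⟩
  have h1 : a * v = v * a := by
    have e1 : s * a * s⁻¹ * (s * v * s⁻¹) = s * (a * v) * s⁻¹ := by group
    have e2 : s * v * s⁻¹ * (s * a * s⁻¹) = s * (v * a) * s⁻¹ := by group
    rw [e1, e2] at hcm
    exact mul_left_cancel (mul_right_cancel hcm)
  have h2 := hac.same hv
  rw [h1, mul_inv_cancel_right, hve] at h2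
  have h3 := congrFun h2 0
  rw [ap_zero'] at h3
  simp at h3

include hG hp hω hT hT' in
/-- **THEOREM J** : `J(S) ≠ J(S')`, for `k ≥ 2`, if `U_i ∩ U'_j = 1` for a matched pair. -/
theorem jj_ne {i l : Fin k} (hil : l ≠ i) {j : Fin k'} (m : Mt M M' i j) (m' : Mt M' M j i)
    (hUU : Uc M i ⊓ Uc M' j = ⊥) : jj (S : Subgroup G) ≠ jj (S' : Subgroup G) := by
  intro hJ
  obtain ⟨e, f, g, e', f', g', p⟩ := exists_pairF hG hp hω m m'
  have h := js_of hG hp hω hT hT' hJ m p.φ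
  have h' := js_of hG hp.symm hω hT' hT hJ.symm m' p.φ'
  rw [← hJ] at h'
  exact false_of h h' hG p.eg_mem p.symm.eg_mem hUU (S.isPGroup'.to_le (jj_le _)) (fun W hW hJW => weak S hW hJW)
    (not_comm hG hp hω hT hT' hJ hil m h h')

end pair

end Cfsg.Agent.Omega.IId.ThmJ
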