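import Cfsg.Agent.Omega.HOne.NSPair
import Cfsg.Agent.Omega.SQ1.Bau
import Cfsg.Agent.ZN.Facts

/-!
# THEOREM J (helper882 #21032): one side

`JS S T L A U A' J π e f g` : `SideS T L A U A' π` with `Form L A U π e f g A`, `J = J(S)`, `A, A' ≤ J ≤ T ≤ S`, the elements of
`J` act on `A` as `lo b`, `L` normalises `Q = C_T(A)`.

* `star` (1) : `B ∈ 𝒜(J)`, `[B, A] ≠ 1` ==> `C_B(A) A ∈ 𝒜(J)`;
* `J1 = J(Q)` : `le_J1`, `J1_le`, `J1_gen`;
* `Rk` : the kernel `{v ∈ A | π v 0 = 0}`; `comm_zj` (3) : `[Ω₁Z(J1), J] ≤ Rk`; `Rk_gen`.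
-/

set_option autoImplicit false
set_option linter.unusedSectionVars false

namespace Cfsg.Agent.Omega.IId.ThmJ

open Subgroup Cfsg Cfsg.Agent.ZN.ChoiceBase
open Cfsg.Agent.ZN (o2 zc jj zj)
open Cfsg.Agent.Lib.SL2Mat Cfsg.Agent.Omega.NatPair Cfsg.Agent.Omega.HOne.NSMod
open Cfsg.Agent.Omega.HOne.NSSide Cfsg.Agent.Omega.HOne.NSPair
open Cfsg.Agent.PLocal.ElemAbSup (isElementaryAbelian_sup)
open Cfsg.Agent.PLocal.ThompsonJ (isElementaryAbelian_mono isElementaryAbelian_iff)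
open Cfsg.Agent.Omega.SQ1.Bau (elem_comm elem_sq mem_sup_comm card_sup_comm mem_AA_of_comm zj_le_AA)

universe u

variable {G : Type u} [Group G] {F : Type} [Field F]

/-- A homomorphism on `B` with values in `F` whose kernel is in `K`. -/
theorem card_le_of_hom [Finite G] [Finite F] {B K : Subgroup G} (φ : G → F)
    (hφ : ∀ x ∈ B, ∀ y ∈ B, φ (x * y) = φ x + φ y) (hK : ∀ x ∈ B, φ x = 0 → x ∈ K) :
    Nat.card B ≤ Nat.card K * Nat.card F := by
  let ψ : B →* Multiplicative F :=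
    MonoidHom.mk' (fun x => Multiplicative.ofAdd (φ x)) fun x y => by
      rw [← ofAdd_add]
      exact congrArg _ (hφ x x.2 y y.2)
  have h1 := ψ.ker.card_mul_index
  have h2 : ψ.ker.index ≤ Nat.card F := by
    rw [index_ker]
    exact Nat.card_le_card_of_injective (fun x : ψ.range => Multiplicative.toAdd (x : Multiplicative F))
      (Multiplicative.toAdd.injective.comp Subtype.val_injective)
  have h3 : Nat.card ψ.ker ≤ Nat.card K := by
    refine Nat.card_le_card_of_injective (fun x : ψ.ker => (⟨x.1.1, hK x.1.1 x.1.2 ?_⟩ : K)) fun x y hxy => ?_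
    · have := (MonoidHom.mem_ker).1 x.2
      exact Multiplicative.ofAdd.injective this
    · exact Subtype.ext (Subtype.ext (congrArg (fun z : K => (z : G)) hxy))
  rw [← h1]
  exact Nat.mul_le_mul h3 h2

/-- A surjective homomorphism on `B` whose kernel contains `K`. -/
theorem le_card_of_hom [Finite G] {B K : Subgroup G} (φ : G → F)
    (hφ : ∀ x ∈ B, ∀ y ∈ B, φ (x * y) = φ x + φ y) (hs : ∀ c, ∃ x ∈ B, φ x = c) (hKB : K ≤ B)
    (hK : ∀ x ∈ K, φ x = 0) : Nat.card K * Nat.card F ≤ Nat.card B := by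
  let ψ : B →* Multiplicative F :=
    MonoidHom.mk' (fun x => Multiplicative.ofAdd (φ x)) fun x y => by
      rw [← ofAdd_add]
      exact congrArg _ (hφ x x.2 y y.2)
  have h1 := ψ.ker.card_mul_index
  have h0 : ψ.range = ⊤ := by
    rw [MonoidHom.range_eq_top]
    intro c
    obtain ⟨x, hx, hxc⟩ := hs (Multiplicative.toAdd c)
    exact ⟨⟨x, hx⟩, by change Multiplicative.ofAdd (φ x) = c; rw [hxc]; rfl⟩
  have h2 : ψ.ker.index = Nat.card F := by
    rw [index_ker, h0]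
    exact Nat.card_congr (Subgroup.topEquiv.toEquiv.trans Multiplicative.toAdd)
  have h3 : Nat.card K ≤ Nat.card ψ.ker := by
    refine Nat.card_le_card_of_injective (fun x : K => (⟨⟨x, hKB x.2⟩, ?_⟩ : ψ.ker)) fun x y hxy => ?_
    · rw [MonoidHom.mem_ker]
      change Multiplicative.ofAdd (φ x) = 1
      rw [hK x x.2]; rfl
    · exact Subtype.ext (congrArg (fun z : ψ.ker => ((z : B) : G)) hxy)
  rw [← h1, h2]
  exact Nat.mul_le_mul_right _ h3

/-- One side. -/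
structure JS (S T L A U A' J : Subgroup G) (π : G → Fin 2 → F) (e f g : F → G) : Prop where
  s : SideS T L A U A' π
  φ : Form L A U π e f g A
  hS : jj S = J
  TS : T ≤ S
  JT : J ≤ T
  AJ : A ≤ J
  A'J : A' ≤ J
  act : ∀ x ∈ J, ∃ b, Is L A U π x (lo b)
  QL : L ≤ normalizer ((T ⊓ centralizer (A : Set G) : Subgroup G) : Set G)
  sq : ∀ b : F, ∃ t, b = t ^ 2
  ω : ∃ ω : F, ω ≠ 0 ∧ ω ≠ 1

/-- `{v ∈ A | π v 0 = 0}` -/
def Rk {L A U : Subgroup G} {π : G → Fin 2 → F} (r : Rig L A U π) : Subgroup G where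
  carrier := {v | v ∈ A ∧ π v 0 = 0}
  one_mem' := ⟨one_mem _, by rw [r.map_one]; rfl⟩
  mul_mem' := by
    rintro x y ⟨hx, hx'⟩ ⟨hy, hy'⟩
    exact ⟨mul_mem hx hy, by rw [r.mul x hx y hy, Pi.add_apply, hx', hy', add_zero]⟩
  inv_mem' := by
    rintro x ⟨hx, hx'⟩
    exact ⟨inv_mem hx, by rw [r.map_inv hx, Pi.neg_apply, hx', neg_zero]⟩

theorem mem_Rk {L A U : Subgroup G} {π : G → Fin 2 → F} (r : Rig L A U π) {v : G} :
    v ∈ Rk r ↔ v ∈ A ∧ π v 0 = 0 := Iff.rfl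

namespace JS

variable {S T L A U A' J : Subgroup G} {π : G → Fin 2 → F} {e f g : F → G} (h : JS S T L A U A' J π e f g)

include h

theorem r : Rig L A U π := h.s.r

omit h in
theorem zj_elem (U : Subgroup G) : IsElementaryAbelian 2 (zj U) :=
  isElementaryAbelian_iff.2 ⟨fun a ha b hb => (mem_zj.1 hb).2.2 a (mem_zj.1 ha).1,
    fun a ha => (mem_zj.1 ha).2.1⟩

theorem elemA : IsElementaryAbelian 2 A :=
  isElementaryAbelian_iff.2 ⟨h.r.Vc, fun a ha => by rw [pow_two]; exact h.r.Vs a ha⟩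

theorem jjJ [Finite G] : jj J = J := by
  conv_rhs => rw [← h.hS]
  refine jj_eq_of_jj_le (by rw [h.hS]) ?_
  rw [← h.hS]; exact jj_le S

theorem mmJ [Finite G] : mm J = mm S := by
  refine mm_eq_of_jj_le (by rw [h.hS]) ?_
  rw [← h.hS]; exact jj_le S

theorem JS_le : J ≤ S := h.JT.trans h.TS

/-- elementary abelian subgroups of `S` of order at least `mm J` -/
theorem mem_AA [Finite G] {B : Subgroup G} (h1 : IsElementaryAbelian 2 B) (h2 : B ≤ S) (h3 : mm J ≤ Nat.card B) :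
    B ∈ AA J := by
  have h4 : B ∈ AA S := mem_AA_iff.2 ⟨h1, h2, by rw [← h.mmJ]; exact h3⟩
  have h5 := le_jj h4
  rw [h.hS] at h5
  exact mem_AA_iff.2 ⟨h1, h5, h3⟩

/-- `J` centralises `Rk` -/
theorem J_Rk {x v : G} (hx : x ∈ J) (hv : v ∈ Rk h.r) : x * v = v * x := by
  obtain ⟨b, hb⟩ := h.act x hx
  exact h.s.hcen b x hb v hv.1 hv.2

/-- an element acting as `lo b`, `b ≠ 0`, commutes with `v ∈ A` only if `π v 0 = 0` -/
theorem zero_of_comm {x v : G} {b : F} (hx : Is L A U π x (lo b)) (hb : b ≠ 0) (hv : v ∈ A)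
    (hc : x * v = v * x) : π v 0 = 0 := by
  have h1 := hx.act v hv
  rw [hc, mul_inv_cancel_right, ap_lo] at h1
  have h2 : π v 1 = b * π v 0 + π v 1 := congrFun h1 1
  exact (mul_eq_zero.1 (right_eq_add.1 h2)).resolve_left hb

/-- an element acting as `lo 0` centralises `A` -/
theorem comm_of_zero {x : G} (hx : Is L A U π x (lo 0)) {v : G} (hv : v ∈ A) : x * v = v * x := by
  rw [lo_zero] at hx
  exact h.r.rig x hx.mem hx.cen (fun v hv => by rw [hx.act v hv, ap_one]) v hv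

omit h in
/-- the parameter is unique -/
theorem lo_unique (h : JS S T L A U A' J π e f g) {x : G} {b c : F} (hb : Is L A U π x (lo b))
    (hc : Is L A U π x (lo c)) : b = c := by
  have e1 := hb.act (f 1) (h.φ.fV 1)
  rw [hc.act (f 1) (h.φ.fV 1), h.φ.fπ, ap_lo, ap_lo] at e1
  simpa using (congrFun e1 1).symm

/-- two elements of `J` with the same parameter -/
theorem exists_par : ∃ β : G → F, (∀ x ∈ J, Is L A U π x (lo (β x))) ∧
    ∀ x ∈ J, ∀ y ∈ J, β (x * y) = β x + β y := by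
  classical
  choose! β hβ using h.act
  refine ⟨β, hβ, fun x hx y hy => ?_⟩
  have h1 := h.r.is_mul (hβ x hx) (hβ y hy)
  rw [lo_mul] at h1
  exact h.lo_unique (hβ _ (mul_mem hx hy)) h1

variable [Finite G] [Finite F]

/-- `|A| ≥ |Rk| |F|` -/
theorem card_A_ge : Nat.card (Rk h.r) * Nat.card F ≤ Nat.card A :=
  le_card_of_hom (fun v => π v 0) (fun x hx y hy => by rw [h.r.mul x hx y hy]; rfl)
    (fun c => ⟨f c, h.φ.fV c, by rw [h.φ.fπ]; rfl⟩) (fun v hv => hv.1) fun v hv => hv.2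

/-- `|B| ≤ |C_B(A)| |F|` -/
theorem card_B_le {B : Subgroup G} (hB : B ≤ J) :
    Nat.card B ≤ Nat.card (B ⊓ centralizer (A : Set G) : Subgroup G) * Nat.card F := by
  obtain ⟨β, hβ, hm⟩ := h.exists_par
  refine card_le_of_hom β (fun x hx y hy => hm x (hB hx) y (hB hy)) fun x hx h0 => ?_
  have h1 := hβ x (hB hx)
  rw [h0] at h1
  exact mem_inf.2 ⟨hx, mem_centralizer_iff.2 fun v hv => (h.comm_of_zero h1 hv).symm⟩

/-- `C_A(B) = Rk` if `B` does not centralise `A` -/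
theorem inf_le_Rk {B : Subgroup G} (hB : B ≤ J) (hn : ¬ B ≤ centralizer (A : Set G)) {v : G} (hv : v ∈ A)
    (hc : ∀ b ∈ B, b * v = v * b) : v ∈ Rk h.r := by
  obtain ⟨x, hx, hxn⟩ := SetLike.not_le_iff_exists.1 hn
  obtain ⟨b, hb⟩ := h.act x (hB hx)
  refine ⟨hv, h.zero_of_comm hb ?_ hv (hc x hx)⟩
  rintro rfl
  exact hxn (mem_centralizer_iff.2 fun v hv => (h.comm_of_zero hb hv).symm)

/-- **(1)** -/
theorem star {B : Subgroup G} (hB : B ∈ AA J) (hn : ¬ B ≤ centralizer (A : Set G)) :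
    (B ⊓ centralizer (A : Set G)) ⊔ A ∈ AA J := by
  have hc : ∀ a ∈ B ⊓ centralizer (A : Set G), ∀ v ∈ A, a * v = v * a := fun a ha v hv =>
    (mem_centralizer_iff.1 ha.2 v hv).symm
  have h1 : IsElementaryAbelian 2 ((B ⊓ centralizer (A : Set G)) ⊔ A : Subgroup G) :=
    isElementaryAbelian_sup (isElementaryAbelian_mono hB.1 inf_le_left) h.elemA
      fun v hv => mem_centralizer_iff.2 fun a ha => hc a ha v hv
  refine mem_AA_iff.2 ⟨h1, sup_le (inf_le_left.trans hB.2.1) h.AJ, ?_⟩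
  rw [mm_eq hB]
  have h2 := card_sup_comm hc
  have h3 : Nat.card ((B ⊓ centralizer (A : Set G)) ⊓ A : Subgroup G) ≤ Nat.card (Rk h.r) :=
    card_le_of_le fun v hv => h.inf_le_Rk hB.2.1 hn hv.2 fun b hb => elem_comm hB.1 b hb v hv.1.1
  have h4 := h.card_A_ge
  have h5 := h.card_B_le hB.2.1
  have h6 : 0 < Nat.card (Rk h.r) := Nat.card_pos
  refine Nat.le_of_mul_le_mul_right ?_ h6
  calc Nat.card B * Nat.card (Rk h.r)
      ≤ Nat.card (B ⊓ centralizer (A : Set G) : Subgroup G) * Nat.card F * Nat.card (Rk h.r) :=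
        Nat.mul_le_mul_right _ h5
    _ = Nat.card (B ⊓ centralizer (A : Set G) : Subgroup G) * (Nat.card (Rk h.r) * Nat.card F) := by ring
    _ ≤ Nat.card (B ⊓ centralizer (A : Set G) : Subgroup G) * Nat.card A := Nat.mul_le_mul_left _ h4
    _ = Nat.card ((B ⊓ centralizer (A : Set G)) ⊔ A : Subgroup G) *
        Nat.card ((B ⊓ centralizer (A : Set G)) ⊓ A : Subgroup G) := h2.symm
    _ ≤ _ := Nat.mul_le_mul_left _ h3

/-- `A ≤ B` for some `B ∈ 𝒜(J)` -/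
theorem exists_B : ∃ B ∈ AA J, A ≤ B := by
  obtain ⟨B, hB⟩ := AA_nonempty J
  by_cases hn : B ≤ centralizer (A : Set G)
  · refine ⟨B, hB, fun v hv => mem_AA_of_comm hB (h.AJ hv) ?_ fun b hb => (mem_centralizer_iff.1 (hn hb) v hv).symm⟩
    rw [pow_two]; exact h.r.Vs v hv
  · exact ⟨_, h.star hB hn, le_sup_right⟩

/-- `B ∈ 𝒜(J)` over `A` is in `𝒜(Q)` -/
theorem mem_AAQ {B : Subgroup G} (hB : B ∈ AA J) (hAB : A ≤ B) : B ∈ AA (T ⊓ centralizer (A : Set G)) := by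
  refine ⟨hB.1, le_inf (hB.2.1.trans h.JT) fun b hb => mem_centralizer_iff.2 fun v hv =>
    elem_comm hB.1 v (hAB hv) b hb, fun C hC hCQ => ?_⟩
  rw [← mm_eq hB, h.mmJ]
  exact card_le_mm hC ((hCQ.trans inf_le_left).trans h.TS)

theorem mmQ : mm (T ⊓ centralizer (A : Set G)) = mm J := by
  obtain ⟨B, hB, hAB⟩ := h.exists_B
  rw [mm_eq (h.mem_AAQ hB hAB), mm_eq hB]

theorem of_AAQ {B : Subgroup G} (hB : B ∈ AA (T ⊓ centralizer (A : Set G))) : B ∈ AA J ∧ A ≤ B := by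
  have h1 : B ∈ AA J := h.mem_AA hB.1 ((hB.2.1.trans inf_le_left).trans h.TS) (by
    rw [← h.mmQ, mm_eq hB])
  refine ⟨h1, fun v hv => mem_AA_of_comm h1 (h.AJ hv) (by rw [pow_two]; exact h.r.Vs v hv) fun b hb => ?_⟩
  exact (mem_centralizer_iff.1 (hB.2.1 hb).2 v hv).symm

omit h in
/-- `J1 = J(C_T(A))` -/
abbrev J1 (T A : Subgroup G) : Subgroup G := jj (T ⊓ centralizer (A : Set G))

theorem J1_le : J1 T A ≤ J := by
  rw [J1, jj_eq]
  exact sSup_le fun B hB => (h.of_AAQ hB).1.2.1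

theorem le_J1 {B : Subgroup G} (hB : B ∈ AA J) (hAB : A ≤ B) : B ≤ J1 T A := le_jj (h.mem_AAQ hB hAB)

theorem A_le_J1 : A ≤ J1 T A := by
  obtain ⟨B, hB, hAB⟩ := h.exists_B
  exact hAB.trans (h.le_J1 hB hAB)

omit h [Finite G] [Finite F] in
theorem J1_comm {T A : Subgroup G} {x v : G} (hx : x ∈ J1 T A) (hv : v ∈ A) : x * v = v * x :=
  (mem_centralizer_iff.1 (jj_le _ hx).2 v hv).symm

theorem cent_le_J1 {B : Subgroup G} (hB : B ∈ AA J) : B ⊓ centralizer (A : Set G) ≤ J1 T A := by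
  by_cases hn : B ≤ centralizer (A : Set G)
  · refine inf_le_left.trans (h.le_J1 hB fun v hv => mem_AA_of_comm hB (h.AJ hv) ?_ fun b hb => ?_)
    · rw [pow_two]; exact h.r.Vs v hv
    · exact (mem_centralizer_iff.1 (hn hb) v hv).symm
  · exact le_sup_left.trans (h.le_J1 (h.star hB hn) le_sup_right)

theorem L_le_J1 : L ≤ normalizer ((J1 T A : Subgroup G) : Set G) :=
  h.QL.trans (normalizer_le_jj _)

/-! ### `Z1 = Ω₁Z(J1)` -/

theorem A_le_Z : A ≤ zj (T ⊓ centralizer (A : Set G)) := fun v hv =>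
  mem_zj.2 ⟨h.A_le_J1 hv, by rw [pow_two]; exact h.r.Vs v hv, fun y hy => J1_comm hy hv⟩

/-- `Z1 = A C_{Z1}(B)` for `B ∈ 𝒜(J)` not centralising `A` -/
theorem Z_split {B : Subgroup G} (hB : B ∈ AA J) (hn : ¬ B ≤ centralizer (A : Set G)) {z : G}
    (hz : z ∈ zj (T ⊓ centralizer (A : Set G))) : ∃ a ∈ A, ∃ c, (∀ b ∈ B, b * c = c * b) ∧ z = a * c := by
  set Z : Subgroup G := zj (T ⊓ centralizer (A : Set G)) with hZ
  set D : Subgroup G := B ⊓ centralizer (A : Set G) with hD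
  set C : Subgroup G := Z ⊓ centralizer (B : Set G) with hC
  have hZe : IsElementaryAbelian 2 Z := zj_elem _
  have hZJ : Z ≤ J := fun x hx => h.J1_le (mem_zj.1 hx).1
  have hDZ : ∀ x ∈ D, ∀ y ∈ Z, x * y = y * x := fun x hx y hy => (mem_zj.1 hy).2.2 x (h.cent_le_J1 hB hx)
  have h1 : IsElementaryAbelian 2 (D ⊔ Z : Subgroup G) :=
    isElementaryAbelian_sup (isElementaryAbelian_mono hB.1 inf_le_left) hZe
      fun v hv => mem_centralizer_iff.2 fun a ha => hDZ a ha v hv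
  have h2 : Nat.card (D ⊔ Z : Subgroup G) ≤ Nat.card B :=
    hB.2.2 _ h1 (sup_le (inf_le_left.trans hB.2.1) hZJ)
  have h3 := card_sup_comm hDZ
  have h4 := h.card_B_le hB.2.1
  have h5 : Nat.card (D ⊓ Z : Subgroup G) ≤ Nat.card C := card_le_of_le fun x hx =>
    mem_inf.2 ⟨hx.2, mem_centralizer_iff.2 fun b hb => elem_comm hB.1 b hb x hx.1.1⟩
  have h6 : Nat.card Z ≤ Nat.card F * Nat.card C := by
    have h7 : 0 < Nat.card D := Nat.card_pos
    refine Nat.le_of_mul_le_mul_left ?_ h7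
    calc Nat.card D * Nat.card Z = Nat.card (D ⊔ Z : Subgroup G) * Nat.card (D ⊓ Z : Subgroup G) := h3.symm
      _ ≤ (Nat.card D * Nat.card F) * Nat.card C := Nat.mul_le_mul (h2.trans h4) h5
      _ = _ := by ring
  have hAC : ∀ x ∈ A, ∀ y ∈ C, x * y = y * x := fun x hx y hy => elem_comm hZe x (h.A_le_Z hx) y hy.1
  have h7 := card_sup_comm hAC
  have h8 : Nat.card (A ⊓ C : Subgroup G) ≤ Nat.card (Rk h.r) := card_le_of_le fun v hv =>
    h.inf_le_Rk hB.2.1 hn hv.1 fun b hb => mem_centralizer_iff.1 hv.2.2 b hb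
  have h9 := h.card_A_ge
  have h10 : Nat.card Z ≤ Nat.card (A ⊔ C : Subgroup G) := by
    have h11 : 0 < Nat.card (Rk h.r) := Nat.card_pos
    refine Nat.le_of_mul_le_mul_right ?_ h11
    calc Nat.card Z * Nat.card (Rk h.r) ≤ Nat.card F * Nat.card C * Nat.card (Rk h.r) := Nat.mul_le_mul_right _ h6
      _ = (Nat.card (Rk h.r) * Nat.card F) * Nat.card C := by ring
      _ ≤ Nat.card A * Nat.card C := Nat.mul_le_mul_right _ h9
      _ = Nat.card (A ⊔ C : Subgroup G) * Nat.card (A ⊓ C : Subgroup G) := h7.symm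
      _ ≤ _ := Nat.mul_le_mul_left _ h8
  have h11 : A ⊔ C = Z := Subgroup.eq_of_le_of_card_ge (sup_le h.A_le_Z inf_le_left) h10
  rw [← h11] at hz
  obtain ⟨a, ha, c, hc, rfl⟩ := mem_sup_comm hAC hz
  exact ⟨a, ha, c, fun b hb => mem_centralizer_iff.1 hc.2 b hb, rfl⟩

/-- **(3)** `[Ω₁Z(J1), J] ≤ Rk` -/
theorem comm_Z {x z : G} (hx : x ∈ J) (hz : z ∈ zj (T ⊓ centralizer (A : Set G))) :
    x * z * x⁻¹ * z⁻¹ ∈ Rk h.r := by
  have hsup : J = sSup (AA J) := by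
    conv_lhs => rw [← h.jjJ, jj_eq]
  let K : Subgroup G :=
    { carrier := {x | x ∈ J ∧ x * z * x⁻¹ * z⁻¹ ∈ Rk h.r}
      one_mem' := ⟨one_mem _, by
        have e : (1 : G) * z * 1⁻¹ * z⁻¹ = 1 := by group
        rw [e]; exact one_mem _⟩
      mul_mem' := by
        rintro x y ⟨hx, hx'⟩ ⟨hy, hy'⟩
        refine ⟨mul_mem hx hy, ?_⟩
        have h1 := h.J_Rk hx hy'
        have e : x * y * z * (x * y)⁻¹ * z⁻¹ = (x * (y * z * y⁻¹ * z⁻¹)) * z * x⁻¹ * z⁻¹ := by group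
        rw [e, h1]
        have e2 : y * z * y⁻¹ * z⁻¹ * x * z * x⁻¹ * z⁻¹ = (y * z * y⁻¹ * z⁻¹) * (x * z * x⁻¹ * z⁻¹) := by group
        rw [e2]
        exact mul_mem hy' hx'
      inv_mem' := by
        rintro x ⟨hx, hx'⟩
        refine ⟨inv_mem hx, ?_⟩
        have h1 := h.J_Rk (inv_mem hx) (inv_mem hx')
        have e : x⁻¹ * z * x⁻¹⁻¹ * z⁻¹ = x⁻¹ * (x * z * x⁻¹ * z⁻¹)⁻¹ * x := by group
        rw [e, h1, inv_mul_cancel_right]
        exact inv_mem hx' }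
  have hK : J ≤ K := by
    conv_lhs => rw [hsup]
    refine sSup_le fun B hB b hb => ⟨hB.2.1 hb, ?_⟩
    by_cases hn : B ≤ centralizer (A : Set G)
    · have h1 : b ∈ J1 T A := h.cent_le_J1 hB (mem_inf.2 ⟨hb, hn hb⟩)
      have h2 := (mem_zj.1 hz).2.2 b h1
      rw [h2, mul_inv_cancel_right, mul_inv_cancel]
      exact one_mem _
    · obtain ⟨a, ha, c, hc, rfl⟩ := h.Z_split hB hn hz
      have e : b * (a * c) * b⁻¹ * (a * c)⁻¹ = b * a * (c * b⁻¹) * c⁻¹ * a⁻¹ := by group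
      have h1 : c * b⁻¹ = b⁻¹ * c := (hc _ (inv_mem hb)).symm
      have e2 : b * a * (b⁻¹ * c) * c⁻¹ * a⁻¹ = b * a * b⁻¹ * a⁻¹ := by group
      rw [e, h1, e2]
      obtain ⟨t, ht⟩ := h.act b (hB.2.1 hb)
      have h3 : b * a * b⁻¹ ∈ A := h.r.Vn b ht.mem a ha
      refine ⟨mul_mem h3 (inv_mem ha), ?_⟩
      rw [h.r.mul _ h3 _ (inv_mem ha), h.r.map_inv ha, ht.act a ha, ap_lo]
      simp
  exact (hK hx).2

end JS

end Cfsg.Agent.Omega.IId.ThmJ
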